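import Mathlib
import Cfsg.Agent.H448.FprTwF.Tor
import Cfsg.Agent.H448.FprTwF.Sl

/-!
# The indices of the two maximal parabolics of a group of type `²F₄` (helper448)
-/

set_option autoImplicit false
set_option linter.unusedSectionVars false

namespace Cfsg.Agent.H448.FprTwF

open Cfsg.Agent.KFacts.TwF4 Cfsg.Agent.KFacts.TwF4.Full
open Cfsg.Agent.SplitTwo Cfsg.Agent.SplitTwo.ZS Cfsg.Agent.TitsThree.RankTwoZ
open Cfsg.Agent.SplitTwo.RootSysZ Subgroup MulAction Cfsg.Agent.H409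

universe u

variable {F : Type*} [Field F] {σ : F →+* F} {G : Type u} [Group G] (S : Full σ G) {H : Subgroup G}

/-- The Borel subgroup. -/
def Bo : Subgroup G := J S.XZ 1 8 ⊔ S.T

theorem X9_le_N28 : S.XZ 9 ≤ normalizer (J S.XZ 2 8 : Set G) :=
  fun x hx => (S.zsys8.le_normalizer (a := 2) (b := 8) (by norm_num)) (mem_J hx (by norm_num) (by norm_num))

theorem X0_le_N17 : S.XZ 0 ≤ normalizer (J S.XZ 1 7 : Set G) :=
  fun x hx => (S.zsys8.le_normalizer (a := 1) (b := 7) (by norm_num)) (mem_J hx (by norm_num) (by norm_num))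

theorem B_le_N28 : Bo S ≤ normalizer (J S.XZ 2 8 : Set G) := sup_le (U_le_N28 S) (T_le_N S 2 8)

theorem B_le_N17 : Bo S ≤ normalizer (J S.XZ 1 7 : Set G) := sup_le (U_le_N17 S) (T_le_N S 1 7)

theorem not_09 {K : Subgroup G} (hU : J S.XZ 1 8 ≤ K) (h0 : S.XZ 0 ≤ K) (h9 : S.XZ 9 ≤ K) : K = ⊤ := by
  refine top_of_ten (S := S) (a := 0) fun k h1 h2 => ?_
  by_cases e0 : k = 0
  · subst e0; exact h0
  by_cases e9 : k = 9
  · subst e9; exact h9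
  exact has_of_J hU (by omega) (by omega)

theorem cover28 [Finite G] : ∀ g ∈ normalizer (J S.XZ 2 8 : Set G), (∃ u ∈ J S.XZ 1 8, ∃ t ∈ S.T, g = u * t) ∨
      ∃ u ∈ J S.XZ 1 8, ∃ t ∈ S.T, ∃ x ∈ S.XZ 1, g = u * t * S.n1 * x := by
  rcases Cfsg.Agent.H62.PPTwF4.cover S (U_le_N28 S) (N28_ne_top S) with h | h
  · exfalso
    have h1 : ∃ x ∈ S.XZ 9, x ∉ Bo S := by
      by_contra hcon
      push Not at hcon
      exact N17_ne_top S (not_09 S (U_le_N17 S) (X0_le_N17 S) fun x hx => B_le_N17 S (hcon x hx))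
    obtain ⟨x, hx, hxB⟩ := h1
    rcases h x (X9_le_N28 S hx) with ⟨u, hu, t, ht, rfl⟩ | ⟨u, hu, t, ht, y, hy, e⟩
    · exact hxB (mul_mem (mem_sup_left hu) (mem_sup_right ht))
    · have h2 : S.n2 ∈ normalizer (J S.XZ 2 8 : Set G) := by
        have e2 : S.n2 = (u * t)⁻¹ * x * y⁻¹ := by rw [e]; group
        rw [e2]
        refine mul_mem (mul_mem (inv_mem (mul_mem (U_le_N28 S hu) (T_le_N S 2 8 ht))) (X9_le_N28 S hx))
          (inv_mem (U_le_N28 S (mem_J hy (by norm_num) (by norm_num))))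
      refine N28_ne_top S (not_09 S (U_le_N28 S) (fun z hz => ?_) (X9_le_N28 S))
      have h3 : S.n2 * z * S.n2⁻¹ ∈ S.XZ 8 := S.n2_refl.mem' hz (by norm_num)
      have h4 : S.n2 * z * S.n2⁻¹ ∈ normalizer (J S.XZ 2 8 : Set G) := U_le_N28 S (mem_J h3 (by norm_num) (by norm_num))
      have e3 : z = S.n2⁻¹ * (S.n2 * z * S.n2⁻¹) * S.n2 := by group
      rw [e3]
      exact mul_mem (mul_mem (inv_mem h2) h4) h2
  · exact h

theorem cover17 [Finite G] : ∀ g ∈ normalizer (J S.XZ 1 7 : Set G), (∃ u ∈ J S.XZ 1 8, ∃ t ∈ S.T, g = u * t) ∨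
      ∃ u ∈ J S.XZ 1 8, ∃ t ∈ S.T, ∃ x ∈ S.XZ 8, g = u * t * S.n2 * x := by
  rcases Cfsg.Agent.H62.PPTwF4.cover S (U_le_N17 S) (N17_ne_top S) with h | h
  · exact h
  · exfalso
    have h1 : ∃ x ∈ S.XZ 0, x ∉ Bo S := by
      by_contra hcon
      push Not at hcon
      exact N28_ne_top S (not_09 S (U_le_N28 S) (fun x hx => B_le_N28 S (hcon x hx)) (X9_le_N28 S))
    obtain ⟨x, hx, hxB⟩ := h1
    rcases h x (X0_le_N17 S hx) with ⟨u, hu, t, ht, rfl⟩ | ⟨u, hu, t, ht, y, hy, e⟩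
    · exact hxB (mul_mem (mem_sup_left hu) (mem_sup_right ht))
    · have h2 : S.n1 ∈ normalizer (J S.XZ 1 7 : Set G) := by
        have e2 : S.n1 = (u * t)⁻¹ * x * y⁻¹ := by rw [e]; group
        rw [e2]
        refine mul_mem (mul_mem (inv_mem (mul_mem (U_le_N17 S hu) (T_le_N S 1 7 ht))) (X0_le_N17 S hx))
          (inv_mem (U_le_N17 S (mem_J hy (by norm_num) (by norm_num))))
      refine N17_ne_top S (not_09 S (U_le_N17 S) (X0_le_N17 S) (fun z hz => ?_))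
      have h3 : S.n1 * z * S.n1⁻¹ ∈ S.XZ 1 := S.n1_refl.mem' hz (by norm_num)
      have h4 : S.n1 * z * S.n1⁻¹ ∈ normalizer (J S.XZ 1 7 : Set G) := U_le_N17 S (mem_J h3 (by norm_num) (by norm_num))
      have e3 : z = S.n1⁻¹ * (S.n1 * z * S.n1⁻¹) * S.n1 := by group
      rw [e3]
      exact mul_mem (mul_mem (inv_mem h2) h4) h2

theorem card_le [Finite G] {K X : Subgroup G} {n : G}
    (h : ∀ g ∈ K, (∃ u ∈ J S.XZ 1 8, ∃ t ∈ S.T, g = u * t) ∨ ∃ u ∈ J S.XZ 1 8, ∃ t ∈ S.T, ∃ x ∈ X, g = u * t * n * x) :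
    Nat.card K ≤ Nat.card (Bo S) * (Nat.card X + 1) := by
  have := Cfsg.Agent.H62.PPTwF4.card_le_of_cover K (Bo S) ⊥ X n (fun g hg => by
    rcases h g hg with ⟨u, hu, t, ht, e⟩ | ⟨u, hu, t, ht, x, hx, e⟩
    · exact Or.inl ⟨u * t, mul_mem (mem_sup_left hu) (mem_sup_right ht), 1, one_mem _, by rw [e, mul_one]⟩
    · exact Or.inr ⟨u * t, mul_mem (mem_sup_left hu) (mem_sup_right ht), 1, one_mem _, x, hx, by rw [e, mul_one]⟩)
  rwa [Subgroup.card_bot, one_mul] at this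

theorem cop_B [Finite G] [Finite F] (hF : ∃ c : Fˣ, c ≠ 1) (hR : S.R.p = 2) {n : ℕ} (h2 : ¬ 2 ∣ n)
    (hn : n.Coprime (Nat.card F - 1)) : (Nat.card (Bo S)).Coprime n := by
  refine Nat.Coprime.symm (Nat.coprime_of_dvd fun k hk hkn hkB => ?_)
  have hk2 : k ≠ 2 := by rintro rfl; exact h2 hkn
  have : Fact k.Prime := ⟨hk⟩
  obtain ⟨⟨e, heB⟩, he⟩ := exists_prime_orderOf_dvd_card' k hkB
  have he' : orderOf e = k := by rw [← he, Subgroup.orderOf_mk]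
  have h1 := Cfsg.Agent.PreUniq.LowExc.TwF4.dvd_of_borel (S := S) hF hR hk hk2 (e := e)
    (by rw [← he']; exact pow_orderOf_eq_one e) (by rintro rfl; rw [orderOf_one] at he'; exact hk.one_lt.ne he') heB
  exact hk.one_lt.ne' (Nat.dvd_one.1 (hn ▸ Nat.dvd_gcd hkn h1))

theorem card_eq [Finite G] [Finite F] (hF : ∃ c : Fˣ, c ≠ 1) (hR : S.R.p = 2) {K X : Subgroup G} {n : G}
    (hB : Bo S ≤ K)
    (h : ∀ g ∈ K, (∃ u ∈ J S.XZ 1 8, ∃ t ∈ S.T, g = u * t) ∨ ∃ u ∈ J S.XZ 1 8, ∃ t ∈ S.T, ∃ x ∈ X, g = u * t * n * x)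
    (hd : Nat.card X + 1 ∣ Nat.card K) (h2 : ¬ 2 ∣ Nat.card X + 1) (hn : (Nat.card X + 1).Coprime (Nat.card F - 1)) :
    Nat.card K = Nat.card (Bo S) * (Nat.card X + 1) := by
  have h1 := card_le S h
  have hc := cop_B S hF hR h2 hn
  obtain ⟨m, hm⟩ := Subgroup.card_dvd_of_le hB
  rw [hm] at hd h1 ⊢
  have h3 := hc.symm.dvd_of_dvd_mul_left hd
  have hBpos : 0 < Nat.card (Bo S) := Nat.card_pos
  have hm0 : 0 < m := by
    rcases Nat.eq_zero_or_pos m with rfl | h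
    · rw [mul_zero] at hm
      have : 0 < Nat.card K := Nat.card_pos
      omega
    · exact h
  have h4 : m ≤ Nat.card X + 1 := Nat.le_of_mul_le_mul_left h1 hBpos
  rw [le_antisymm h4 (Nat.le_of_dvd hm0 h3)]

theorem X_ne (i : ℤ) : S.XZ i ≠ S.XZ (i + 8) := by
  intro h
  obtain ⟨y, hy, hy1⟩ := S.zsys8.exists_ne i
  exact hy1 (S.X_inf_opp hy (h ▸ hy))

theorem card_X1' : Nat.card (S.XZ 1) = Nat.card F := by
  have := Cfsg.Agent.H42.Tw.card_odd S 0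
  rwa [show (2 : ℤ) * 0 + 1 = 1 by ring] at this

theorem card_X8' : Nat.card (S.XZ 8) = Nat.card F ^ 2 := by
  have := Cfsg.Agent.H42.Tw.card_even S 4
  rwa [show (2 : ℤ) * 4 = 8 by ring] at this

theorem card_X0' : Nat.card (S.XZ 0) = Nat.card F ^ 2 := by
  have := Cfsg.Agent.H42.Tw.card_even S 0
  rwa [show (2 : ℤ) * 0 = 0 by ring] at this

/-- numerical facts on an even number -/
theorem num_cop {q : ℕ} (h : 2 ∣ q) (hq : 2 ≤ q) : ¬ 2 ∣ q + 1 ∧ (q + 1).Coprime (q - 1) ∧ ¬ 2 ∣ q ^ 2 + 1 ∧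
    (q ^ 2 + 1).Coprime (q - 1) := by
  obtain ⟨k, rfl⟩ := h
  have h1 : ¬ 2 ∣ 2 * k + 1 := by omega
  have h2 : ¬ 2 ∣ (2 * k) ^ 2 + 1 := by
    have : (2 * k) ^ 2 = 2 * (2 * k ^ 2) := by ring
    omega
  have h3 : ¬ 2 ∣ 2 * k - 1 := by omega
  refine ⟨h1, ?_, h2, ?_⟩
  · have e : 2 * k + 1 = 2 + 1 * (2 * k - 1) := by omega
    rw [e, Nat.coprime_add_mul_right_left]
    exact (Nat.Prime.coprime_iff_not_dvd Nat.prime_two).2 h3
  · have e : (2 * k) ^ 2 + 1 = 2 + (2 * k + 1) * (2 * k - 1) := by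
      obtain ⟨j, rfl⟩ : ∃ j, k = j + 1 := ⟨k - 1, by omega⟩
      have : 2 * (j + 1) - 1 = 2 * j + 1 := by omega
      rw [this]; ring
    rw [e, Nat.coprime_add_mul_right_left]
    exact (Nat.Prime.coprime_iff_not_dvd Nat.prime_two).2 h3

theorem card_N28 [Finite G] [Finite F] (hF : ∃ c : Fˣ, c ≠ 1) (hR : S.R.p = 2) (hq : 2 ∣ Nat.card F) :
    Nat.card ↥(normalizer (J S.XZ 2 8 : Set G)) = Nat.card (Bo S) * (Nat.card F + 1) := by
  have hq2 : 2 ≤ Nat.card F := Nat.le_of_dvd Nat.card_pos hq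
  obtain ⟨h1, h2, -, -⟩ := num_cop hq hq2
  have hd : Nat.card (S.XZ 1) + 1 ∣ Nat.card ↥(normalizer (J S.XZ 2 8 : Set G)) :=
    (Cfsg.Agent.H42.Tw.card_succ_dvd S.zsys8 (X_ne S 1)).trans (Subgroup.card_dvd_of_le (sup_le
      (fun x hx => U_le_N28 S (mem_J hx (by norm_num) (by norm_num))) (X9_le_N28 S)))
  have := card_eq S hF hR (B_le_N28 S) (cover28 S) hd (by rwa [card_X1']) (by rwa [card_X1'])
  rwa [card_X1'] at this

theorem card_N17 [Finite G] [Finite F] (hF : ∃ c : Fˣ, c ≠ 1) (hR : S.R.p = 2) (hq : 2 ∣ Nat.card F) :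
    Nat.card ↥(normalizer (J S.XZ 1 7 : Set G)) = Nat.card (Bo S) * (Nat.card F ^ 2 + 1) := by
  have hq2 : 2 ≤ Nat.card F := Nat.le_of_dvd Nat.card_pos hq
  obtain ⟨-, -, h1, h2⟩ := num_cop hq hq2
  have hd : Nat.card (S.XZ 8) + 1 ∣ Nat.card ↥(normalizer (J S.XZ 1 7 : Set G)) := by
    have h3 := (Cfsg.Agent.H42.Tw.card_succ_dvd S.zsys8 (X_ne S 0)).trans (Subgroup.card_dvd_of_le
      (K := normalizer (J S.XZ 1 7 : Set G)) (sup_le (X0_le_N17 S)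
      (fun x hx => U_le_N17 S (mem_J hx (by norm_num) (by norm_num)))))
    rwa [card_X0', ← card_X8' S] at h3
  have := card_eq S hF hR (B_le_N17 S) (cover17 S) hd (by rwa [card_X8']) (by rwa [card_X8'])
  rwa [card_X8'] at this

end Cfsg.Agent.H448.FprTwF
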