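import Mathlib
import Cfsg.Agent.H448.FprTwF.Idx
import Cfsg.Agent.H448.FprCent.SteTor
import Cfsg.Agent.H398.FPR.Count
import Cfsg.Agent.H934.HeisTwF4
import Cfsg.Agent.S1072
import Cfsg.Agent.S1068

/-!
# `²F₄(q)`, `q > 2`: the primes `p ∣ q² - q + 1`, `p ∣ q⁴ - q² + 1` (helper448)
-/

set_option autoImplicit false
set_option linter.unusedSectionVars false

namespace Cfsg.Agent.H448.FprTwF

open Subgroup MulAction Cfsg.Agent.SplitTwo.ZS Cfsg.Agent.KFacts.TwF4 Cfsg.Agent.KFacts.TwF4.Perf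
open Cfsg.Agent.KFacts.TwF4.SylU
open Cfsg.Agent.H409 (FprRow)

universe u v

section NoInv

variable {F : Type u} [Field F] {σ : F →+* F} {G : Type v} [Group G] (S : Full σ G)

theorem PL_le_N17 : S.PL ≤ normalizer (J S.XZ 1 7 : Set G) := by
  refine J_le fun k h1 h2 => ?_
  by_cases h0 : k = 0
  · subst h0; exact X0_le_N17 S
  · exact (X_le_J (by omega) h2).trans (le_sup_left.trans (B_le_N17 S))

theorem J19_le_N28 : J S.XZ 1 9 ≤ normalizer (J S.XZ 2 8 : Set G) := by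
  refine J_le fun k h1 h2 => ?_
  by_cases h0 : k = 9
  · subst h0; exact X9_le_N28 S
  · exact (X_le_J h1 (by omega)).trans (le_sup_left.trans (B_le_N28 S))

/-- **No involution commutes with an element of prime order `p ∤ 2 (q - 1) (q + 1) (q² + 1)`.** -/
theorem no_inv [Finite G] [Finite F] (hF : ∃ c : Fˣ, c ≠ 1) (hR : S.R.p = 2) (h2 : 2 ∣ Nat.card F) {p : ℕ}
    (hp : p.Prime) (hp2 : p ≠ 2) (h1 : ¬ p ∣ Nat.card F - 1) (h3 : ¬ p ∣ Nat.card F + 1)
    (h4 : ¬ p ∣ Nat.card F ^ 2 + 1) {x t : G} (hx : orderOf x = p) (ht : orderOf t = 2) (hc : Commute t x) : False := by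
  have hB : (Nat.card (Bo S)).Coprime p := by
    refine cop_B S hF hR ?_ ?_
    · intro h; exact hp2 ((Nat.prime_dvd_prime_iff_eq Nat.prime_two hp).1 h).symm
    · exact (Nat.Prime.coprime_iff_not_dvd hp).2 h1
  have key : ∀ {K : Subgroup G} {a : ℕ} (k : G), Nat.card K = Nat.card (Bo S) * a → ¬ p ∣ a → k * x * k⁻¹ ∈ K → False := by
    intro K a k hK ha hk
    have ho : orderOf (k * x * k⁻¹) = p := by
      rw [← hx]
      exact orderOf_injective (MulAut.conj k).toMonoidHom (MulAut.conj k).injective x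
    have h5 : p ∣ Nat.card K := by
      rw [← ho]
      exact Subgroup.orderOf_dvd_natCard K hk
    rw [hK] at h5
    rcases hp.dvd_mul.1 h5 with h6 | h6
    · exact (Nat.Prime.coprime_iff_not_dvd hp).1 hB.symm h6
    · exact ha h6
  have ht2 : t * t = 1 := by rw [← pow_two, ← ht]; exact pow_orderOf_eq_one t
  have ht1 : t ≠ 1 := by
    rintro rfl
    rw [orderOf_one] at ht
    exact absurd ht (by norm_num)
  have hcen : ∀ k : G, k * x * k⁻¹ * (k * t * k⁻¹) = k * t * k⁻¹ * (k * x * k⁻¹) := by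
    intro k
    calc k * x * k⁻¹ * (k * t * k⁻¹) = k * (x * t) * k⁻¹ := by group
      _ = k * (t * x) * k⁻¹ := by rw [hc.eq]
      _ = _ := by group
  rcases classes S hF hR ht2 ht1 with ⟨u, hu, k, hk⟩ | ⟨s, hs, k, hk⟩
  · have e1 : S.rot * (S.rot * k) * t * (S.rot * (S.rot * k))⁻¹ = S.e 2 0 u := by
      calc S.rot * (S.rot * k) * t * (S.rot * (S.rot * k))⁻¹ = S.rot * (S.rot * (k * t * k⁻¹) * S.rot⁻¹) * S.rot⁻¹ := by
            group
        _ = S.e 2 0 u := by rw [hk, S.rot_e, S.rot_e]; rfl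
    have hz1 : S.e 2 0 u ≠ 1 := fun h => hu (S.e_eq_one h).2
    refine key (S.rot * (S.rot * k)) (card_N17 S hF hR h2) h4 (PL_le_N17 S ?_)
    rw [← S.centralizer_z (z := S.e 2 0 u) ⟨u, rfl⟩ hz1, Subgroup.mem_centralizer_singleton_iff, ← e1]
    exact hcen _
  · have e1 : S.rot * (S.rot * k) * t * (S.rot * (S.rot * k))⁻¹ = S.o 2 s := by
      calc S.rot * (S.rot * k) * t * (S.rot * (S.rot * k))⁻¹ = S.rot * (S.rot * (k * t * k⁻¹) * S.rot⁻¹) * S.rot⁻¹ := by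
            group
        _ = S.o 2 s := by rw [hk, S.rot_o, S.rot_o]; rfl
    refine key (S.rot * (S.rot * k)) (card_N28 S hF hR h2) h3 (J19_le_N28 S (HO_le_J S ?_))
    rw [← S.centralizer_o hs, Subgroup.mem_centralizer_singleton_iff, ← e1]
    exact hcen _

end NoInv

/-- numbers -/
theorem num_cyc {q : ℕ} (hq : 8 ≤ q) {N : ℕ} (hN : (N : ℝ) ≤ (Real.sqrt q + 1) ^ 4) : (N + 1) * N ≤ 2 * q ^ 5 := by
  set s := Real.sqrt q with hs
  have hs0 : 0 ≤ s := Real.sqrt_nonneg _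
  have hs2 : s ^ 2 = q := Real.sq_sqrt (Nat.cast_nonneg q)
  have hq' : (8 : ℝ) ≤ q := by exact_mod_cast hq
  have hs1 : (28 / 10 : ℝ) ≤ s := by
    rw [hs]
    apply Real.le_sqrt_of_sq_le
    norm_num
    linarith
  have h1 : s + 1 ≤ 19 / 14 * s := by linarith
  have h2 : (s + 1) ^ 4 ≤ 17 / 5 * (q : ℝ) ^ 2 := by
    calc (s + 1) ^ 4 ≤ (19 / 14 * s) ^ 4 := pow_le_pow_left₀ (by positivity) h1 4
      _ = 130321 / 38416 * (s ^ 2) ^ 2 := by ring
      _ ≤ 17 / 5 * (s ^ 2) ^ 2 := mul_le_mul_of_nonneg_right (by norm_num) (by positivity)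
      _ = _ := by rw [hs2]
  have h3 : (N : ℝ) ≤ 17 / 5 * (q : ℝ) ^ 2 := hN.trans h2
  have h4 : ((N : ℝ) + 1) * N ≤ 2 * (q : ℝ) ^ 5 := by
    have hN0 : (0 : ℝ) ≤ N := Nat.cast_nonneg N
    have h5 : (q : ℝ) ^ 5 = (q : ℝ) ^ 4 * q := by ring
    have h6 : (q : ℝ) ^ 4 = (q : ℝ) ^ 2 * (q : ℝ) ^ 2 := by ring
    have h7 : (64 : ℝ) ≤ (q : ℝ) ^ 2 := by nlinarith
    calc ((N : ℝ) + 1) * N ≤ (17 / 5 * (q : ℝ) ^ 2 + 1) * (17 / 5 * (q : ℝ) ^ 2) := by
          apply mul_le_mul (by linarith) h3 hN0 (by positivity)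
      _ ≤ 16 * (q : ℝ) ^ 4 := by rw [h6]; nlinarith
      _ ≤ _ := by rw [h5]; nlinarith [pow_pos (show (0 : ℝ) < q by linarith) 4]
  exact_mod_cast h4

open Cfsg.Lie

/-- **The primes `p ∤ 2 (q - 1) (q + 1) (q² + 1)`.** -/
theorem fpr_cyc {K : Type u} [Field K] [Fintype K] {m : ℕ} (hm : 1 ≤ m) (hK : Fintype.card K = 2 ^ (2 * m + 1)) {p : ℕ}
    [hp : Fact p.Prime] (hp2 : p ≠ 2) (h1 : ¬ p ∣ Nat.card K - 1) (h3 : ¬ p ∣ Nat.card K + 1)
    (h4 : ¬ p ∣ Nat.card K ^ 2 + 1) (hpX : p ∣ Nat.card ↥(twistedF4 K (2 ^ m))) :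
    FprRow (p + 1) 1 p ↥(twistedF4 K (2 ^ m)) := by
  have hcK : Nat.card K = 2 ^ (2 * m + 1) := by rw [Nat.card_eq_fintype_card, hK]
  have h2 : 2 ∣ Nat.card K := by rw [hcK]; exact dvd_pow_self 2 (by omega)
  have h8 : 8 ≤ Nat.card K := by
    rw [hcK]
    calc 8 = 2 ^ 3 := by norm_num
      _ ≤ _ := Nat.pow_le_pow_right (by norm_num) (by omega)
  obtain ⟨φ, hφ⟩ := Cfsg.Agent.ChevalleyStructure.TwF4.TwistedFix.exists_rln hK
  have := Cfsg.Agent.ChevalleyStructure.TwF4.Twisted.charP_two hK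
  have hfin : Finite ↥(twistedF4 K (2 ^ m)) := inferInstance
  have hF : ∃ c : Kˣ, c ≠ 1 := by
    have h1 : 1 < Nat.card Kˣ := by
      rw [Nat.card_units]
      omega
    have h2 : Nontrivial Kˣ := Finite.one_lt_card_iff_nontrivial.1 h1
    exact exists_ne 1
  obtain ⟨S, hS⟩ : ∃ S : Full φ ↥(twistedF4 K (2 ^ m)), S.R.p = 2 :=
    ⟨Cfsg.Agent.KFacts.TwF4.Inst.full hK hφ, rfl⟩
  have hp5 : 5 < p := by
    by_contra hcon
    have hp' := hp.out
    have h5 : p = 3 ∨ p = 5 := by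
      have h6 : p ≤ 5 := by omega
      have h7 := hp'.two_le
      interval_cases p
      · exact absurd rfl hp2
      · exact Or.inl rfl
      · exact absurd hp' (by norm_num)
      · exact Or.inr rfl
    have e4 : Nat.card K = 4 ^ m * 2 := by rw [hcK, pow_succ, pow_mul]; norm_num
    rcases h5 with rfl | rfl
    · apply h3
      rw [e4, Nat.dvd_iff_mod_eq_zero, Nat.add_mod, Nat.mul_mod, Nat.pow_mod]
      norm_num
    · apply h4
      have e16 : Nat.card K ^ 2 = 16 ^ m * 4 := by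
        rw [e4, mul_pow, ← pow_mul, mul_comm m 2, pow_mul]; norm_num
      rw [e16, Nat.dvd_iff_mod_eq_zero, Nat.add_mod, Nat.mul_mod, Nat.pow_mod]
      norm_num
  obtain ⟨x, hx⟩ := exists_prime_orderOf_dvd_card' p hpX
  have hs := (Cfsg.Agent.S1072.result hm hK).1
  rcases Cfsg.Agent.H448.FprCent.cent_ste hm hK hp.out hp5 hx with ⟨v, hv, hc⟩ | hcent
  · exact absurd (no_inv S hF hS h2 hp.out hp2 h1 h3 h4 hx hv hc) id
  intro H hH
  refine ⟨x, ⟨1, by rw [hx, pow_one]⟩, ?_⟩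
  refine Cfsg.Agent.H398.FPR.ratio_of_bound H (c := Nat.card ↥(centralizer {x})) (i := Nat.card H) le_rfl ?_ ?_
  · exact Nat.card_le_card_of_injective (fun y => y.1) Subtype.val_injective
  have hidx : 2 * Fintype.card K ^ 5 ≤ H.index :=
    Cfsg.Agent.H934.HeisTwF4.main S (by rw [← Nat.card_eq_fintype_card]; omega) H hH
  have hpN : p ≤ Nat.card ↥(centralizer {x}) := by
    refine Nat.le_of_dvd Nat.card_pos ?_
    rw [← hx]
    exact Subgroup.orderOf_dvd_natCard _ (mem_centralizer_singleton_iff.2 rfl)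
  have h5 := num_cyc h8 hcent
  rw [← Nat.card_eq_fintype_card] at hidx
  rw [one_mul, ← H.card_mul_index]
  calc (p + 1) * (Nat.card ↥(centralizer {x}) * Nat.card H) = ((p + 1) * Nat.card ↥(centralizer {x})) * Nat.card H := by ring
    _ ≤ ((Nat.card ↥(centralizer {x}) + 1) * Nat.card ↥(centralizer {x})) * Nat.card H := by
        gcongr
    _ ≤ H.index * Nat.card H := Nat.mul_le_mul_right _ (h5.trans hidx)
    _ = _ := mul_comm _ _

end Cfsg.Agent.H448.FprTwF
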