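import Mathlib
import Cfsg.Agent.H448.FprTwF.Plus

/-!
# The row `p ∣ q - 1` for the groups `²F₄(q)` (helper448)
-/

set_option autoImplicit false
set_option linter.unusedSectionVars false

namespace Cfsg.Agent.H448.FprTwF

open Cfsg.Agent.KFacts.TwF4 Cfsg.Agent.KFacts.TwF4.Full
open Cfsg.Agent.SplitTwo Cfsg.Agent.SplitTwo.ZS Cfsg.Agent.TitsThree.RankTwoZ
open Cfsg.Agent.SplitTwo.RootSysZ Subgroup MulAction Cfsg.Agent.H409

universe u

variable {F : Type*} [Field F] {σ : F →+* F} {G : Type u} [Group G] (S : Full σ G) {H : Subgroup G}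

theorem idx_ge [Finite G] [Finite F] (hq : 2 ≤ Nat.card F) (hU : Nat.card (J S.XZ 1 8) = Nat.card F ^ 12)
    (hcard : Nat.card G = Nat.card F ^ 12 * (Nat.card F - 1) * (Nat.card F ^ 3 + 1) * (Nat.card F ^ 4 - 1) *
      (Nat.card F ^ 6 + 1)) {M : Subgroup G} (hUM : J S.XZ 1 8 ≤ M) (hMt : M ≠ ⊤) : Nat.card F ^ 9 ≤ M.index := by
  have h1 := Cfsg.Agent.H62.PPTwF4.card_M S hUM hMt
  rw [hU] at h1
  have h2 : Nat.card M * M.index = Nat.card G := Subgroup.card_mul_index M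
  set q := Nat.card F with hqd
  rw [hcard, ord_eq hq] at h2
  by_contra hcon
  push Not at hcon
  have h3 : q ^ 9 ≤ (q + 1) ^ 2 * (q ^ 2 - q + 1) * (q ^ 6 + 1) := by
    obtain ⟨a, ha⟩ : ∃ a, q = a + 1 := ⟨q - 1, by omega⟩
    have e2 : q ^ 2 - q + 1 = a * (a + 1) + 1 := by
      have : q ^ 2 = a * (a + 1) + q := by rw [ha]; ring
      omega
    have e3 : q ^ 3 ≤ (q + 1) ^ 2 * (q ^ 2 - q + 1) := by
      rw [e2, ha]
      nlinarith [Nat.zero_le (a ^ 4), Nat.zero_le (a ^ 3), Nat.zero_le (a ^ 2)]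
    calc q ^ 9 = q ^ 3 * q ^ 6 := by ring
      _ ≤ ((q + 1) ^ 2 * (q ^ 2 - q + 1)) * (q ^ 6 + 1) := Nat.mul_le_mul e3 (by omega)
      _ = _ := by ring
  have h4 : Nat.card M * M.index < (q ^ 12 * (((q - 1) * (q - 1)) * (q * q + 1))) *
      ((q + 1) ^ 2 * (q ^ 2 - q + 1) * (q ^ 6 + 1)) := by
    calc Nat.card M * M.index < Nat.card M * q ^ 9 := Nat.mul_lt_mul_of_pos_left hcon Nat.card_pos
      _ ≤ _ := Nat.mul_le_mul h1 h3
  rw [h2] at h4
  refine absurd h4 (not_lt.2 (le_of_eq ?_))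
  ring

/-- **The row `p ∣ q - 1`.** -/
theorem fpr_minus [Finite G] [Finite F] (hR : S.R.p = 2) (h8 : 8 ≤ Nat.card F)
    (hU : Nat.card (J S.XZ 1 8) = Nat.card F ^ 12)
    (hcard : Nat.card G = Nat.card F ^ 12 * (Nat.card F - 1) * (Nat.card F ^ 3 + 1) * (Nat.card F ^ 4 - 1) *
      (Nat.card F ^ 6 + 1)) {p : ℕ} [hp : Fact p.Prime] (hpq : p ∣ Nat.card F - 1) : FprRow (p + 1) 1 p G := by
  have : Fintype F := Fintype.ofFinite F
  have h1 : p ∣ Nat.card Fˣ := by rwa [Nat.card_units]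
  obtain ⟨c, hc⟩ := exists_prime_orderOf_dvd_card' p h1
  have hto : orderOf (S.h c c⁻¹) = p := by
    refine orderOf_eq_prime ?_ ?_
    · rw [Cfsg.Agent.KFacts.TwF4.Arc.h_pow, inv_pow, ← hc, pow_orderOf_eq_one, inv_one, S.h_one]
    · intro h
      have h4 := S.h_e c c⁻¹ 0 1 0
      rw [h, one_mul, inv_one, mul_one] at h4
      have h5 := (S.injE 0 _ _ _ _ h4).1
      rw [mul_one, chE_zero] at h5
      have h6 : c = 1 := Units.ext (by rw [Units.val_one]; exact h5.symm)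
      rw [h6, orderOf_one] at hc
      exact hp.out.one_lt.ne hc
  have hT1 : S.h c c⁻¹ ∈ S.Tk 1 := S.mem_Tk_one.2 ⟨c, rfl⟩
  refine fun H hH => ⟨S.h c c⁻¹, ⟨1, by rw [pow_one]; exact hto⟩, fpr_torus S hR hT1 hto (fun K hK hKt => ?_) hH⟩
  have h3 := idx_ge S (by omega) hU hcard hK hKt
  have h4 : p + 1 ≤ Nat.card F := by
    have := Nat.le_of_dvd (by omega) hpq
    omega
  show _ ≤ K.index
  calc (p + 1) * (Nat.card F * 32) ≤ Nat.card F * (Nat.card F * (Nat.card F ^ 7)) := by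
        gcongr
        calc 32 ≤ 8 ^ 7 := by norm_num
          _ ≤ _ := Nat.pow_le_pow_left h8 7
    _ = Nat.card F ^ 9 := by ring
    _ ≤ _ := h3

end Cfsg.Agent.H448.FprTwF
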