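import Mathlib
import Cfsg.Agent.H448.FprTwF.Sl

/-!
# Generation of `²F₄` by two opposite abelian subgroups (helper448)

`gen_of_Q2` : a subgroup containing `Q2` and its opposite is the whole group.
-/

set_option autoImplicit false
set_option linter.unusedSectionVars false

namespace Cfsg.Agent.H448.FprTwF

open Cfsg.Agent.KFacts.TwF4 Cfsg.Agent.KFacts.TwF4.Full
open Cfsg.Agent.SplitTwo Cfsg.Agent.SplitTwo.ZS Cfsg.Agent.TitsThree.RankTwoZ
open Cfsg.Agent.SplitTwo.RootSysZ Subgroup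

universe u

variable {F : Type*} [Field F] {σ : F →+* F} {G : Type u} [Group G] (S : Full σ G) {H : Subgroup G}

theorem rot4_o (a : ZMod 8) (t : F) : S.rot ^ 4 * S.o a t * (S.rot ^ 4)⁻¹ = S.o (a + 4) t := by
  have h1 := S.rot_o a t
  have h2 := S.rot_o (a + 1) t
  have h3 := S.rot_o (a + 1 + 1) t
  have h4 := S.rot_o (a + 1 + 1 + 1) t
  rw [← h3, ← h2, ← h1] at h4
  rw [show a + 4 = a + 1 + 1 + 1 + 1 by ring, ← h4]
  simp only [pow_succ, pow_zero, one_mul, mul_inv_rev, mul_assoc]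

theorem rot4_e (a : ZMod 8) (p u : F) : S.rot ^ 4 * S.e a p u * (S.rot ^ 4)⁻¹ = S.e (a + 4) p u := by
  have h1 := S.rot_e a p u
  have h2 := S.rot_e (a + 1) p u
  have h3 := S.rot_e (a + 1 + 1) p u
  have h4 := S.rot_e (a + 1 + 1 + 1) p u
  rw [← h3, ← h2, ← h1] at h4
  rw [show a + 4 = a + 1 + 1 + 1 + 1 by ring, ← h4]
  simp only [pow_succ, pow_zero, one_mul, mul_inv_rev, mul_assoc]

/-- enough elements generate -/
theorem top_of_coord (ho : ∀ a t, S.o a t ∈ H) (he : ∀ a p u, S.e a p u ∈ H) : H = ⊤ := by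
  refine top_of_all (S := S) fun k => ?_
  rcases Int.even_or_odd' k with ⟨a, rfl | rfl⟩
  · intro x hx
    obtain ⟨p, u, rfl⟩ := (S.mem_XZ_even a x).1 hx
    exact he _ _ _
  · intro x hx
    obtain ⟨t, rfl⟩ := (S.mem_XZ_odd a x).1 hx
    exact ho _ _

/-- odd root groups and centres of even root groups generate -/
theorem top_of_z (hF : ∃ c : Fˣ, c ≠ 1) (ho : ∀ a t, S.o a t ∈ H) (hz : ∀ a u, S.e a 0 u ∈ H) : H = ⊤ := by
  refine top_of_coord S ho fun b p u => ?_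
  obtain ⟨a, rfl⟩ : ∃ a : ZMod 8, b = a + 2 := ⟨b - 2, by ring⟩
  have key : ∀ t v : F, ∃ A B, S.e (a + 2) (σ t * v) A * S.e (a + 2 + 1) (t * v) B ∈ H := by
    intro t v
    have h1 := S.o_e4 a t 0 v
    have e2 : σ t * 0 * σ 0 + σ t * v = σ t * v := by rw [mul_zero, zero_mul, zero_add]
    have e1 : t * 0 = 0 := mul_zero t
    rw [e2, show a + 3 = a + 2 + 1 by ring] at h1
    set E1 := S.e (a + 1) (t * 0) (t * σ t * 0 * σ 0 + t * σ t * v) with hE1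
    have hE1' : E1 ∈ H := by rw [hE1, e1]; exact hz _ _
    set O1 := S.o (a + 1) (t * σ t * 0 * v + t * σ t * 0 * 0 * σ 0 + t * σ t * σ v)
    have hO1 : O1 ∈ H := ho _ _
    set O2 := S.o (a + 2) (t * σ t * σ 0 * σ v + t * σ t * 0 * 0 * σ 0 * σ 0 + t * σ t * v * v) with hO2'
    have hO2 : O2 ∈ H := ho _ _
    have hc : O2 * S.e (a + 2 + 1) (t * v) (t * σ t * 0 * v * v + t * σ t * 0 * σ 0 * σ v + t * σ t * 0 * 0 * 0 * σ 0 * σ 0) =
      S.e (a + 2 + 1) (t * v) (t * σ t * 0 * v * v + t * σ t * 0 * σ 0 * σ v + t * σ t * 0 * 0 * 0 * σ 0 * σ 0) * O2 :=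
      S.o_e1 (a + 2) _ _ _
    set E3 := S.e (a + 2 + 1) (t * v) (t * σ t * 0 * v * v + t * σ t * 0 * σ 0 * σ v + t * σ t * 0 * 0 * 0 * σ 0 * σ 0) with hE3
    set O3 := S.o (a + 2 + 1) (t * 0 * v + t * 0 * 0 * σ 0 + t * σ v)
    have hO3 : O3 ∈ H := ho _ _
    refine ⟨t * t * σ t * 0 * v * v + t * t * σ t * 0 * 0 * σ 0 * v + t * t * σ t * v * σ v,
      t * σ t * 0 * v * v + t * σ t * 0 * σ 0 * σ v + t * σ t * 0 * 0 * 0 * σ 0 * σ 0, ?_⟩
    set E2 := S.e (a + 2) (σ t * v) (t * t * σ t * 0 * v * v + t * t * σ t * 0 * 0 * σ 0 * v + t * t * σ t * v * σ v) with hE2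
    have h2 : E2 * E3 = (S.e (a + 4) 0 v * S.o a t * E1 * O1)⁻¹ * (S.o a t * S.e (a + 4) 0 v) * O3⁻¹ * O2⁻¹ := by
      rw [h1]
      have : E2 * O2 * E3 = E2 * E3 * O2 := by rw [mul_assoc, hc, mul_assoc]
      calc E2 * E3 = E2 * E3 * O2 * O2⁻¹ := by group
        _ = E2 * O2 * E3 * O2⁻¹ := by rw [this]
        _ = _ := by group
    rw [← hE3, h2]
    have ha := ho a t
    have hb := hz (a + 4) v
    exact mul_mem (mul_mem (mul_mem (inv_mem (mul_mem (mul_mem (mul_mem hb ha) hE1') hO1)) (mul_mem ha hb))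
      (inv_mem hO3)) (inv_mem hO2)
  obtain ⟨c, hc1⟩ := hF
  have hc0 : (c : F) ≠ 0 := c.ne_zero
  have hne : σ (c : F) * (c : F)⁻¹ + 1 ≠ 0 := by
    intro h
    apply hc1
    have h2 : σ (c : F) * (c : F)⁻¹ = 1 := by
      have := S.add_self (1 : F)
      exact add_right_cancel (h.trans this.symm)
    have h3 : σ (c : F) = c := (mul_inv_eq_one₀ hc0).1 h2
    have h4 : (c : F) ^ 2 = c := by
      rw [← S.sq, h3, h3]
    have h5 : (c : F) = 1 := by
      have : (c : F) * c = c * 1 := by rw [← pow_two, h4, mul_one]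
      exact mul_left_cancel₀ hc0 this
    exact Units.ext (by rw [Units.val_one]; exact h5)
  refine (trick S (M := H) (a := a + 2) (f := fun t v => σ t * v) (g := fun t v => t * v) (hz _) (hz _) ?_ key ?_).1 p u
  · intro p u v
    have h1 := S.e_e1 (a + 2) p u 0 v
    rw [mul_zero, S.o_zero, mul_one] at h1
    rw [h1, mul_inv_cancel_right]
    exact hz _ _
  · intro z
    set g := z * (σ (c : F) * (c : F)⁻¹ + 1)⁻¹ with hg
    refine ⟨c, (c : F)⁻¹ * g, 1, g, ?_, ?_⟩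
    · show (c : F) * ((c : F)⁻¹ * g) = 1 * g
      rw [mul_inv_cancel_left₀ hc0, one_mul]
    · show σ (c : F) * ((c : F)⁻¹ * g) + σ 1 * g = z
      rw [map_one]
      calc σ (c : F) * ((c : F)⁻¹ * g) + 1 * g = (σ (c : F) * (c : F)⁻¹ + 1) * g := by ring
        _ = z * ((σ (c : F) * (c : F)⁻¹ + 1)⁻¹ * (σ (c : F) * (c : F)⁻¹ + 1)) := by rw [hg]; ring
        _ = z := by rw [inv_mul_cancel₀ hne, mul_one]

/-- `Q2` and its opposite generate -/
theorem gen_of_Q2 (hF : ∃ c : Fˣ, c ≠ 1) (h1 : S.Q2 ≤ H) (h2 : ∀ s ∈ S.Q2, S.rot ^ 4 * s * (S.rot ^ 4)⁻¹ ∈ H) :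
    H = ⊤ := by
  have o1 : ∀ t, S.o 1 t ∈ H := fun t => h1 (S.q2_2 t)
  have o2 : ∀ t, S.o 2 t ∈ H := fun t => h1 (S.q2_4 t)
  have o5 : ∀ t, S.o 5 t ∈ H := fun t => by
    have := h2 _ (S.q2_2 t)
    rw [rot4_o] at this
    exact this
  have o6 : ∀ t, S.o 6 t ∈ H := fun t => by
    have := h2 _ (S.q2_4 t)
    rw [rot4_o] at this
    exact this
  have z1 : ∀ t, S.e 1 0 t ∈ H := fun t => h1 (S.q2_1 t)
  have z2 : ∀ t, S.e 2 0 t ∈ H := fun t => h1 (S.q2_3 t)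
  have z3 : ∀ t, S.e 3 0 t ∈ H := fun t => h1 (S.q2_5 t)
  have z5 : ∀ t, S.e 5 0 t ∈ H := fun t => by
    have := h2 _ (S.q2_1 t)
    rw [rot4_e] at this
    exact this
  have z6 : ∀ t, S.e 6 0 t ∈ H := fun t => by
    have := h2 _ (S.q2_3 t)
    rw [rot4_e] at this
    exact this
  have z7 : ∀ t, S.e 7 0 t ∈ H := fun t => by
    have := h2 _ (S.q2_5 t)
    rw [rot4_e] at this
    exact this
  have H3 : Has S H 3 := fun x hx => by obtain ⟨t, rfl⟩ := S.X3 hx; exact o1 t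
  have H5 : Has S H 5 := fun x hx => by obtain ⟨t, rfl⟩ := S.X5 hx; exact o2 t
  have H11 : Has S H (3 + 8) := fun x hx => by
    obtain ⟨t, rfl⟩ := (S.mem_XZ_odd 5 x).1 hx
    exact o5 t
  have H13 : Has S H (5 + 8) := fun x hx => by
    obtain ⟨t, rfl⟩ := (S.mem_XZ_odd 6 x).1 hx
    exact o6 t
  have H9 : Has S H 9 := H3.refl H11 H5
  have H7 : Has S H 7 := H5.refl H13 H11
  have H1 : Has S H 1 := H3.refl H11 H13
  have H15 : Has S H 15 := H5.refl H13 H3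
  have hn1 : S.n1 ∈ H := (sup_le H1 H9 : S.LO ≤ H) S.n1_mem_LO
  have z4 : ∀ t, S.e 4 0 t ∈ H := fun t => by
    have h3 := S.n1_e 1 0 t
    rw [show (5 : ZMod 8) - 1 = 4 by rfl] at h3
    rw [← h3]
    exact mul_mem (mul_mem hn1 (z1 t)) (inv_mem hn1)
  have z0 : ∀ t, S.e 0 0 t ∈ H := fun t => by
    have h3 := S.n1_e 5 0 t
    rw [show (5 : ZMod 8) - 5 = 0 by rfl] at h3
    rw [← h3]
    exact mul_mem (mul_mem hn1 (z5 t)) (inv_mem hn1)
  have all8 : ∀ a : ZMod 8, a = 0 ∨ a = 1 ∨ a = 2 ∨ a = 3 ∨ a = 4 ∨ a = 5 ∨ a = 6 ∨ a = 7 := by decide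
  refine top_of_z S hF (fun a t => ?_) (fun a t => ?_)
  · rcases all8 a with rfl | rfl | rfl | rfl | rfl | rfl | rfl | rfl
    · exact H1 (S.o_mem 0 t)
    · exact o1 t
    · exact o2 t
    · exact H7 (S.o_mem 3 t)
    · exact H9 (S.o_mem 4 t)
    · exact o5 t
    · exact o6 t
    · exact H15 (S.o_mem 7 t)
  · rcases all8 a with rfl | rfl | rfl | rfl | rfl | rfl | rfl | rfl
    · exact z0 t
    · exact z1 t
    · exact z2 t
    · exact z3 t
    · exact z4 t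
    · exact z5 t
    · exact z6 t
    · exact z7 t

end Cfsg.Agent.H448.FprTwF
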