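import Mathlib
import Cfsg.Agent.H448.FprTwF.Minus
import Cfsg.Agent.H448.FprTwF.SzPair
import Cfsg.Agent.H448.FprTwF.SzGen
import Cfsg.Agent.H435.Fpr.Sharp

/-!
# The row `p ∣ q ^ 2 + 1` for the groups `²F₄(q)` (helper448)
-/

set_option autoImplicit false
set_option linter.unusedSectionVars false

namespace Cfsg.Agent.H448.FprTwF

open Cfsg.Agent.KFacts.TwF4 Cfsg.Agent.KFacts.TwF4.Full
open Cfsg.Agent.SplitTwo Cfsg.Agent.SplitTwo.ZS Cfsg.Agent.TitsThree.RankTwoZ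
open Cfsg.Agent.SplitTwo.RootSysZ Subgroup MulAction Cfsg.Agent.H409
open scoped commutatorElement

universe u

theorem no_two_pow {q p : ℕ} (hp : p.Prime) (hp2 : p ≠ 2) (h : p ∣ q ^ 2 + 1) (t : ℕ) : 2 ^ t ≠ p + 1 := by
  have hfp : Fact p.Prime := ⟨hp⟩
  have h1 : ((q : ZMod p)) ^ 2 = -1 := by
    have := (ZMod.natCast_eq_zero_iff _ p).2 h
    push_cast at this
    linear_combination this
  have h2 := ZMod.mod_four_ne_three_of_sq_eq_neg_one h1
  have h3 : ¬ 2 ∣ p := fun h => hp2 ((Nat.prime_dvd_prime_iff_eq Nat.prime_two hp).1 h).symm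
  intro ht
  have hp1 := hp.two_le
  rcases t with _ | _ | t
  · simp at ht; omega
  · simp at ht; omega
  · have : 2 ^ (t + 1 + 1) = 4 * 2 ^ t := by ring
    omega

variable {F : Type*} [Field F] {σ : F →+* F} {G : Type u} [Group G] (S : Full σ G) {H : Subgroup G}

/-- an element of order `p` in the Suzuki type rank one group -/
theorem exists_x [Finite G] [Finite F] {p : ℕ} [hp : Fact p.Prime] (h : p ∣ Nat.card F ^ 2 + 1) :
    ∃ y ∈ Irr.L4 S, orderOf y = p := by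
  have h1 := Cfsg.Agent.H42.Tw.card_succ_dvd S.zsys8 (X_ne S 0)
  rw [card_X0'] at h1
  obtain ⟨y, hy⟩ := exists_prime_orderOf_dvd_card' p (h.trans h1)
  refine ⟨y, y.2, ?_⟩
  rw [← hy]
  exact orderOf_injective (S.XZ 0 ⊔ S.XZ (0 + 8)).subtype (subtype_injective _) y

theorem rot4_L4 {x : G} (hx : x ∈ Irr.L4 S) : (S.rot ^ 4)⁻¹ * x * S.rot ^ 4 ∈ Irr.L4 S := by
  have h : Irr.L4 S ≤ (Irr.L4 S).comap (MulAut.conj (S.rot ^ 4)⁻¹).toMonoidHom := by
    have h16o : ∀ a t, (S.rot ^ 4)⁻¹ * S.o a t * S.rot ^ 4 = S.o (a + 4) t := by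
      intro a t
      have := rot4_o S (a + 4) t
      rw [show a + 4 + 4 = a by rw [add_assoc]; exact add_zero a] at this
      rw [← this]; group
    have h16e : ∀ a p u, (S.rot ^ 4)⁻¹ * S.e a p u * S.rot ^ 4 = S.e (a + 4) p u := by
      intro a p u
      have := rot4_e S (a + 4) p u
      rw [show a + 4 + 4 = a by rw [add_assoc]; exact add_zero a] at this
      rw [← this]; group
    refine sup_le (fun y hy => ?_) (fun y hy => ?_)
    · obtain ⟨p, u, rfl⟩ := (S.mem_XZ_even 0 y).1 hy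
      show (S.rot ^ 4)⁻¹ * S.e ((0 : ℤ) : ZMod 8) p u * (S.rot ^ 4)⁻¹⁻¹ ∈ Irr.L4 S
      rw [inv_inv, h16e]
      exact Irr.X8_L4 S (S.mX8 p u)
    · obtain ⟨p, u, rfl⟩ := S.X8 hy
      show (S.rot ^ 4)⁻¹ * S.e 4 p u * (S.rot ^ 4)⁻¹⁻¹ ∈ Irr.L4 S
      rw [inv_inv, h16e]
      exact Irr.X0_L4 S (S.e_mem 0 p u)
  have := h hx
  have e : (MulAut.conj (S.rot ^ 4)⁻¹).toMonoidHom x = (S.rot ^ 4)⁻¹ * x * S.rot ^ 4 := by
    show (S.rot ^ 4)⁻¹ * x * (S.rot ^ 4)⁻¹⁻¹ = _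
    rw [inv_inv]
  rw [mem_comap, e] at this
  exact this

/-- **The row `p ∣ q ^ 2 + 1`.** -/
theorem fpr_sz [Finite G] [Finite F] (hF : ∃ c : Fˣ, c ≠ 1) (hR : S.R.p = 2) (h2 : 2 ∣ Nat.card F)
    {p : ℕ} [hp : Fact p.Prime] (hpq : p ∣ Nat.card F ^ 2 + 1) : FprRow (p + 1) 1 p G := by
  have hq : 2 ≤ Nat.card F := Nat.le_of_dvd Nat.card_pos h2
  obtain ⟨-, -, n1, n2⟩ := num_cop h2 hq
  have hp2 : p ≠ 2 := by rintro rfl; exact n1 hpq
  have hpq1 : ¬ p ∣ Nat.card F - 1 := fun h =>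
    hp.out.one_lt.ne' (Nat.dvd_one.1 (n2 ▸ Nat.dvd_gcd hpq h))
  have hfact : Fact (Nat.Prime 2) := ⟨Nat.prime_two⟩
  obtain ⟨x, hx, hxo⟩ := exists_x S hpq
  have key : ∀ y ∈ Irr.L4 S, orderOf y = p → S.Q2 ≤ ⁅S.Q, zpowers y⁆ := by
    intro y hy hyo
    have hyp : y ^ p = 1 := by rw [← hyo]; exact pow_orderOf_eq_one y
    have hy1 : y ≠ 1 := by
      rintro rfl
      rw [orderOf_one] at hyo
      exact hp.out.one_lt.ne hyo
    refine Q2_le_rad S hR hp2 (Irr.L4_le_PL S hy) hyo fun s hs h => ?_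
    by_contra h4
    exact hpq1 (Cfsg.Agent.PreUniq.LowExc.TwF4.pl_case (S := S) hF hR hp.out hp2 hyp hy1 (Irr.L4_le_PL S hy) hs h4 h)
  set c := (MulAut.conj (S.rot ^ 4)).toMonoidHom with hc
  set y := (S.rot ^ 4)⁻¹ * x * S.rot ^ 4 with hy
  have hyL : y ∈ Irr.L4 S := rot4_L4 S hx
  have hcy : c y = x := by
    show S.rot ^ 4 * ((S.rot ^ 4)⁻¹ * x * S.rot ^ 4) * (S.rot ^ 4)⁻¹ = x
    group
  have hyo : orderOf y = p := by
    rw [← hxo, ← hcy]
    exact (orderOf_injective c (MulAut.conj (S.rot ^ 4)).injective y).symm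
  have hQ2 : IsPGroup 2 S.Q := Cfsg.Agent.KFacts.TwF4.Perf.two_J S hR (a := 1) (b := 7) (by norm_num)
  have hPLn : S.PL ≤ normalizer (S.Q : Set G) := S.zsys8.le_normalizer (a := 1) (b := 7) (by norm_num)
  have hn1 : x ∈ normalizer (S.Q : Set G) := hPLn (Irr.L4_le_PL S hx)
  have hny : y ∈ normalizer (S.Q : Set G) := hPLn (Irr.L4_le_PL S hyL)
  have hn2 : x ∈ normalizer ((S.Q.map c : Subgroup G) : Set G) := by
    rw [← hcy]
    rw [mem_normalizer_iff]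
    intro g
    constructor
    · rintro ⟨r, hr, rfl⟩
      exact ⟨y * r * y⁻¹, (mem_normalizer_iff.1 hny r).1 hr, by rw [map_mul, map_mul, map_inv]⟩
    · rintro ⟨r, hr, h⟩
      refine ⟨y⁻¹ * r * y, ?_, ?_⟩
      · refine (mem_normalizer_iff.1 hny _).2 ?_
        have e : y * (y⁻¹ * r * y) * y⁻¹ = r := by group
        rw [e]; exact hr
      · rw [map_mul, map_mul, map_inv, h]; group
  have hP1 := pair_coprime (p := p) (q := 2) hp2 hQ2 hxo hn1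
  have hP2 := pair_coprime (p := p) (q := 2) hp2 (hQ2.map c) hxo hn2
  have hR1 : IsPGroup 2 ↥(⁅S.Q, zpowers x⁆ : Subgroup G) :=
    hQ2.to_le (Cfsg.Agent.Lib.CoprimeCommutator.commutator_le_left (zpowers_le.2 hn1))
  have hR2 : IsPGroup 2 ↥(⁅S.Q.map c, zpowers x⁆ : Subgroup G) :=
    (hQ2.map c).to_le (Cfsg.Agent.Lib.CoprimeCommutator.commutator_le_left (zpowers_le.2 hn2))
  have hgen : closure ({x} ∪ ((⁅S.Q, zpowers x⁆ : Subgroup G) : Set G) ∪ ((⁅S.Q.map c, zpowers x⁆ : Subgroup G) : Set G)) = ⊤ := by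
    refine gen_of_Q2 S hF ?_ ?_
    · exact fun s hs => subset_closure (Or.inl (Or.inr (key x hx hxo hs)))
    · intro s hs
      refine subset_closure (Or.inr ?_)
      have h3 : c s ∈ (⁅S.Q, zpowers y⁆).map c := ⟨s, key y hyL hyo hs, rfl⟩
      rw [map_commutator, MonoidHom.map_zpowers, hcy] at h3
      exact h3
  have hU := Cfsg.Agent.H435.Fpr.T3_sharp hp.out Nat.prime_two (no_two_pow hp.out hp2 hpq) (x := x) (k := 1)
    (by rw [pow_one, ← hxo]; exact pow_orderOf_eq_one x) hP1 hP2 hR1 hR2 hgen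
  exact fun H hH => ⟨x, ⟨1, by rw [pow_one]; exact hxo⟩, hU H hH⟩

end Cfsg.Agent.H448.FprTwF
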