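import Mathlib
import Cfsg.Agent.H448.FprTwF.Minus
import Cfsg.Agent.H448.FprTwF.Suz
import Cfsg.Agent.H448.FprTwF.Cyc
import Cfsg.Agent.H62.PPTwF4

/-!
# The row for the groups `²F₄(q)`, `q > 2`, `p` odd (helper448)
-/

set_option autoImplicit false
set_option linter.unusedSectionVars false

namespace Cfsg.Agent.H448.FprTwF

open Cfsg.Agent.KFacts.TwF4 Cfsg.Agent.KFacts.TwF4.Full Cfsg.Agent.KFacts.TwF4.SylU
open Cfsg.Agent.SplitTwo Cfsg.Agent.SplitTwo.ZS Cfsg.Agent.TitsThree.RankTwoZ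
open Cfsg.Agent.SplitTwo.RootSysZ Subgroup MulAction Cfsg.Agent.H409 Cfsg.Lie

universe u

theorem row_twF4 {F : Type u} [Field F] [Fintype F] {m : ℕ} (hm : 1 ≤ m) (hK : Fintype.card F = 2 ^ (2 * m + 1)) {p : ℕ}
    [hp : Fact p.Prime] (hp2 : p ≠ 2) (hpX : p ∣ Nat.card ↥(twistedF4 F (2 ^ m))) :
    FprRow (p + 1) 1 p ↥(twistedF4 F (2 ^ m)) := by
  obtain ⟨φ, hφ⟩ := Cfsg.Agent.ChevalleyStructure.TwF4.TwistedFix.exists_rln hK
  have := Cfsg.Agent.ChevalleyStructure.TwF4.Twisted.charP_two hK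
  have hfin : Finite ↥(twistedF4 F (2 ^ m)) := inferInstance
  have hfact : Fact (Nat.Prime 2) := ⟨Nat.prime_two⟩
  have hFc : Nat.card F = 2 ^ (2 * m + 1) := by rw [Nat.card_eq_fintype_card, hK]
  have h2 : 2 ∣ Nat.card F := by rw [hFc]; exact dvd_pow_self 2 (by omega)
  have h8 : 8 ≤ Nat.card F := by
    rw [hFc]
    calc 8 = 2 ^ 3 := by norm_num
      _ ≤ _ := Nat.pow_le_pow_right (by norm_num) (by omega)
  have hF : ∃ c : Fˣ, c ≠ 1 := by
    have h1 : 1 < Nat.card Fˣ := by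
      rw [Nat.card_units]
      omega
    have h2 : Nontrivial Fˣ := Finite.one_lt_card_iff_nontrivial.1 h1
    exact exists_ne 1
  obtain ⟨S, hS⟩ : ∃ S : Full φ ↥(twistedF4 F (2 ^ m)), S.R.p = 2 :=
    ⟨Cfsg.Agent.KFacts.TwF4.Inst.full hK hφ, rfl⟩
  have hcard : Nat.card ↥(twistedF4 F (2 ^ m)) = Nat.card F ^ 12 * (Nat.card F - 1) * (Nat.card F ^ 3 + 1) *
      (Nat.card F ^ 4 - 1) * (Nat.card F ^ 6 + 1) := by
    rw [hFc]; exact Cfsg.Agent.S1068.result hK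
  by_cases h1 : p ∣ Nat.card F - 1
  · -- `|U| = q^12`
    obtain ⟨P, hP⟩ := exists_sylow S hF hS
    have heven : Even (Nat.card F) := even_iff_two_dvd.2 h2
    have hodd : ∀ n : ℕ, n ≠ 0 → Odd (Nat.card F ^ n + 1) ∧ Odd (Nat.card F ^ n - 1) := by
      intro n hn
      have h1 : Even (Nat.card F ^ n) := heven.pow_of_ne_zero hn
      refine ⟨h1.add_one, ?_⟩
      exact Nat.Even.sub_odd (Nat.one_le_pow _ _ (by omega)) h1 odd_one
    have hUc : Nat.card (J S.XZ 1 8) = Nat.card F ^ 12 := by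
      rw [← hP, P.card_eq_multiplicity]
      have h2 : ¬ 2 ∣ (Nat.card F - 1) * (Nat.card F ^ 3 + 1) * (Nat.card F ^ 4 - 1) * (Nat.card F ^ 6 + 1) := by
        rw [← even_iff_two_dvd, Nat.not_even_iff_odd]
        have h1 := (hodd 1 one_ne_zero).2
        rw [pow_one] at h1
        exact ((h1.mul (hodd 3 (by norm_num)).1).mul (hodd 4 (by norm_num)).2).mul (hodd 6 (by norm_num)).1
      have h3 : Nat.card ↥(twistedF4 F (2 ^ m)) =
          Nat.card F ^ 12 * ((Nat.card F - 1) * (Nat.card F ^ 3 + 1) * (Nat.card F ^ 4 - 1) * (Nat.card F ^ 6 + 1)) := by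
        rw [hcard]; ring
      rw [h3]
      have e12 : Nat.card F ^ 12 = 2 ^ ((2 * m + 1) * 12) := by rw [hFc, ← pow_mul]
      rw [e12]
      exact Cfsg.Agent.H62.PPTwF4.proj_two h2
    exact fpr_minus S hS h8 hUc hcard h1
  by_cases h3 : p ∣ Nat.card F + 1
  · exact fpr_plus S hF hS h2 hcard hp2 h1 h3
  by_cases h4 : p ∣ Nat.card F ^ 2 + 1
  · exact fpr_sz S hF hS h2 h4
  exact fpr_cyc hm hK hp2 h1 h3 h4 hpX

/-- **The row for the groups `²F₄(q)`, `q > 2`.** -/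
theorem row_2F4 {X : Type*} [Group X] [Finite X] (h : Iso2F4 X) {p : ℕ} [hp : Fact p.Prime] (hp2 : p ≠ 2)
    (hpX : p ∣ Nat.card X) : FprRow (p + 1) 1 p X := by
  obtain ⟨F, _, _, m, hm, hK, ⟨e⟩⟩ := h
  have h1 := row_twF4 hm hK hp2 (by rw [← Nat.card_congr e.toEquiv]; exact hpX)
  exact FprRow.of_mulEquiv hp.out e.symm h1

end Cfsg.Agent.H448.FprTwF
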